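import Groth.Agent.KPushPr28.Bdd
import Groth.Agent.Coherent.RpushComp
import Groth.Agent.Coherent.ProjFormula
import Groth.Agent.CAlgH.RegImmStalk
import Groth.Agent.Coherent.ProjSpaceFlat
import Groth.Agent.KPr28.PullSq

/-!
# Modules supported on a closed subscheme of `P^n_Y`
-/

set_option autoImplicit false
set_option backward.isDefEq.respectTransparency false
set_option linter.style.haveILetI false

universe u v w

open CategoryTheory CategoryTheory.Limits AlgebraicGeometry TopologicalSpace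
open Groth.Agent.Coherent Groth.Agent.KPr28 Groth.Agent.KPush28 Groth.Agent.ResLF28

noncomputable section

namespace Groth.Agent.KPushPr28

theorem isRegularClosedImmersion_precomp {W Z X : Scheme.{u}} (e : W ⟶ Z) [IsIso e] {i : Z ⟶ X}
    (hi : Mor2.IsRegularClosedImmersion i) : Mor2.IsRegularClosedImmersion (e ≫ i) := by
  haveI := hi.1
  refine ⟨inferInstance, fun w => ?_⟩
  obtain ⟨U, hU, hm, rs, hrs, hker⟩ := hi.2 (e w)
  exact ⟨U, hU, hm, rs, hrs, by rw [Scheme.Hom.ker_comp_of_isIso]; exact hker⟩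

theorem isRegularClosedImmersion_projSpaceMap (n : ℕ) {X Y : Scheme.{u}} (i : X ⟶ Y)
    (hi : Mor2.IsRegularClosedImmersion i) : Mor2.IsRegularClosedImmersion (KRR.projSpaceMap n i) := by
  haveI : Flat (KRR.pr n Y) := Coherent.flat_toBase n Y
  have h := (isPullback_projSpaceMap n i (pullback.lift_snd _ _ _)).flip
  have hb := CAlgH.RegImmStalk.isRegularClosedImmersion_baseChange i (KRR.pr n Y) hi
  have he := h.isoPullback_hom_snd
  rw [← he]
  exact isRegularClosedImmersion_precomp _ hb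

variable {n : ℕ} {X Y : Scheme.{u}}

/-- `O(d) ⊗ i_* H = i_* (i^* O(d) ⊗ H)`. -/
theorem nonempty_twF_push (i : X ⟶ KRR.PY n Y) (d : ℤ) (H : X.Modules) :
    Nonempty (KRR.twF n Y d ((Scheme.Modules.pushforward i).obj H) ≅
      (Scheme.Modules.pushforward i).obj
        (CohB1.tensorMod ((Scheme.Modules.pullback i).obj (Twist.twistOver n Y d)) H)) :=
  ⟨(Coherent.projIso (f := i) (isFinLocFree_twistOver d)).app H⟩

/-- Vanishing on `P^n_Y` of a module supported on `X`. -/
theorem van_push (i : X ⟶ KRR.PY n Y) [IsClosedImmersion i] {H : X.Modules} [Coh.IsQCoh H] (q : ℕ) (d : ℤ)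
    (h : IsZero ((Coh.RpushAb (i ≫ KRR.pr n Y) q).obj
      (Coh.toAb (CohB1.tensorMod ((Scheme.Modules.pullback i).obj (Twist.twistOver n Y d)) H)))) :
    Van q (KRR.twF n Y d ((Scheme.Modules.pushforward i).obj H)) := by
  haveI : Coh.IsQCoh (Twist.twistOver n Y d) := CAlgH3.LocFreeFactor.isQCoh_of_finLocFree (isFinLocFree_twistOver d)
  haveI := CAlgH3.LocFreeFactor.isQCoh_of_finLocFree
    (DCat.PullPerf.isFinLocFree_pullback i (isFinLocFree_twistOver (n := n) (Y := Y) d))
  haveI : Coh.IsQCoh (CohB1.tensorMod ((Scheme.Modules.pullback i).obj (Twist.twistOver n Y d)) H) :=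
    Coherent.isQCoh_tensorMod _ _
  obtain ⟨e⟩ := nonempty_twF_push i d H
  obtain ⟨e'⟩ := Coherent.nonempty_rpushAb_comp_affine i (KRR.pr n Y)
    (CohB1.tensorMod ((Scheme.Modules.pullback i).obj (Twist.twistOver n Y d)) H) q
  exact van_of_iso e.symm (h.of_iso e')

/-- `p_K (i_K [F]) = [f_* F]` when `i_* F` is regular. -/
theorem pushPr_pushCl_apply [IsNoetherian Y] (hY : KRR.HasEnoughLocFree Y)
    (hP : KRR.HasEnoughLocFree (KRR.PY n Y)) {i : X ⟶ KRR.PY n Y} (hi : Mor2.IsRegularClosedImmersion i)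
    {KX : Type v} {KP : Type w} {KY : Type w} [CommRing KX] [CommRing KP] [CommRing KY]
    {φX : SGA6.Kvb X →+ KX} {φP : SGA6.Kvb (KRR.PY n Y) →+ KP} (hφ : Function.Bijective φP)
    {φY : SGA6.Kvb Y →+ KY} {a : KX →+ KP} (ha : KRR.IsPushCl i φX φP a) {b : KP →+ KY}
    (hb : KRR.IsPushPr n Y φP φY b) {f : X ⟶ Y} (hf : i ≫ KRR.pr n Y = f) {F : X.Modules}
    (hF : FlatMod.IsFinLocFree F)
    (hvan : ∀ q : ℕ, 1 ≤ q → IsZero ((Coh.RpushAb f q).obj
      (Coh.toAb (CohB1.tensorMod ((Scheme.Modules.pullback i).obj (Twist.twistOver n Y (-(q : ℤ)))) F)))) :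
    cohBdd Y ((Scheme.Modules.pushforward f).obj F) ∧
      b (a (φX (KRR.cl X F))) = φY (vbCl Y hY ((Scheme.Modules.pushforward f).obj F)) := by
  subst hf
  haveI := isNoetherian_PY n Y
  haveI := hi.1
  haveI := CAlgH3.LocFreeFactor.isQCoh_of_finLocFree hF
  have hA := KPush28.cohBdd_push i hP hi hF
  have hreg : KRR.IsRegSheaf n Y ((Scheme.Modules.pushforward i).obj F) := fun q hq => van_push i q _ (hvan q hq)
  obtain ⟨h1, h2⟩ := pushPr_vbCl hφ hb hY hP hreg hA
  let e := (Scheme.Modules.pushforwardComp i (KRR.pr n Y)).app F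
  refine ⟨cohBdd_of_iso e h1, ?_⟩
  rw [KPush28.isPushCl_apply hP ha hF hA, h2]
  exact congrArg φY (vbCl_iso hY e h1)

end Groth.Agent.KPushPr28
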