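import Groth.Agent.KPr28.Push
import Groth.Agent.KPush28.Ops
import Groth.Agent.CohCmpLib.Edge

/-!
# `p_K` on modules of bounded projective dimension

For a regular module `A` on `P^n_Y` of bounded projective dimension `p_* A` is of bounded projective
dimension and `p_K [A] = [p_* A]`.
-/

set_option autoImplicit false
set_option backward.isDefEq.respectTransparency false
set_option linter.style.haveILetI false

universe u v w

open CategoryTheory CategoryTheory.Limits AlgebraicGeometry TopologicalSpace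
open Groth.Agent.Coherent Groth.Agent.KPr28 Groth.Agent.KPush28 Groth.Agent.ResLF28

noncomputable section

namespace Groth.Agent.KPushPr28

theorem isNoetherian_PY (n : ℕ) (Y : Scheme.{u}) [IsNoetherian Y] : IsNoetherian (KRR.PY n Y) := by
  haveI := RelVALib.isProper_toBase n Y
  haveI : IsLocallyNoetherian (KRR.PY n Y) := LocallyOfFiniteType.isLocallyNoetherian (KRR.pr n Y)
  haveI : CompactSpace ↥(KRR.PY n Y) := QuasiCompact.compactSpace_of_compactSpace (KRR.pr n Y)
  exact { }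

section general

variable {X : Scheme.{u}} [IsLocallyNoetherian X]

theorem cohBdd_of_iso {A B : X.Modules} (e : A ≅ B) (h : cohBdd X A) : cohBdd X B :=
  ⟨Coherent.isCoh_of_iso e h.1, h.2.choose, fun x => LT_of_iso x e (h.2.choose_spec x)⟩

theorem cohBdd_mid {S : ShortComplex X.Modules} (hS : S.ShortExact) (h₁ : cohBdd X S.X₁) (h₃ : cohBdd X S.X₃) :
    cohBdd X S.X₂ := by
  obtain ⟨c₁, d₁, h₁⟩ := h₁
  obtain ⟨c₃, d₃, h₃⟩ := h₃
  exact ⟨Coherent.isCoh_X₂ hS c₁ c₃, d₁ + d₃, fun x => (st_shortExact x hS).hasProjectiveDimensionLT_X₂ _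
    (LT_mono x _ (h₁ x) (by omega)) (LT_mono x _ (h₃ x) (by omega))⟩

theorem vbCl_add (hX : KRR.HasEnoughLocFree X) {S : ShortComplex X.Modules} (hS : S.ShortExact)
    (h₁ : cohBdd X S.X₁) (h₂ : cohBdd X S.X₂) (h₃ : cohBdd X S.X₃) :
    vbCl X hX S.X₂ = vbCl X hX S.X₁ + vbCl X hX S.X₃ :=
  (eq_vbCl hX (by rw [map_add, toBdd_vbCl, toBdd_vbCl]; exact (Resolution28.clSub_rel hS h₁ h₂ h₃).symm)).symm

theorem vbCl_vb (hX : KRR.HasEnoughLocFree X) {M : X.Modules} (hM : FlatMod.IsFinLocFree M) :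
    vbCl X hX M = KRR.cl X M :=
  (eq_vbCl hX (toBdd_cl hM)).symm

theorem vbCl_iso (hX : KRR.HasEnoughLocFree X) {A B : X.Modules} (e : A ≅ B) (h : cohBdd X A) :
    vbCl X hX A = vbCl X hX B := by
  have hz : IsZero (Limits.kernel (𝟙 A)) := isZero_kernel_of_mono (𝟙 A)
  have h0 : cohBdd X (Limits.kernel (𝟙 A)) := cohBdd_of_finLocFree (ExtFilt28.isFinLocFree_isZero hz)
  refine (eq_vbCl hX ?_)
  rw [toBdd_vbCl]
  exact KPush28.map_iso_of_additive (P := cohBdd X) (KZero.clSub (cohBdd X))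
    (fun S hS h₁ h₂ h₃ => Resolution28.clSub_rel hS h₁ h₂ h₃) hz h0 h (cohBdd_of_iso e h) e

end general

variable {n : ℕ} {Y : Scheme.{u}} [IsNoetherian Y]

/-- Regular, bounded, with bounded direct image of the expected class. -/
structure Good (hY : KRR.HasEnoughLocFree Y) (hP : KRR.HasEnoughLocFree (KRR.PY n Y))
    (q : SGA6.Kvb (KRR.PY n Y) →+ SGA6.Kvb Y) (A : (KRR.PY n Y).Modules) : Prop where
  reg : KRR.IsRegSheaf n Y A
  bdd : cohBdd (KRR.PY n Y) A
  push : cohBdd Y ((Scheme.Modules.pushforward (KRR.pr n Y)).obj A)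
  eq : haveI := isNoetherian_PY n Y
    q (vbCl (KRR.PY n Y) hP A) = vbCl Y hY ((Scheme.Modules.pushforward (KRR.pr n Y)).obj A)

/-- `q` is `p_K`. -/
def IsPush (q : SGA6.Kvb (KRR.PY n Y) →+ SGA6.Kvb Y) : Prop :=
  ∀ F : (KRR.PY n Y).Modules, regP n Y F →
    q (KRR.cl _ F) = KRR.cl Y ((Scheme.Modules.pushforward (KRR.pr n Y)).obj F)

theorem shortExact_push_reg' {S : ShortComplex (KRR.PY n Y).Modules} (hS : S.ShortExact)
    (h : KRR.IsRegSheaf n Y S.X₁) : (S.map (Scheme.Modules.pushforward (KRR.pr n Y))).ShortExact := by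
  haveI : HasInjectiveResolutions (KRR.PY n Y).Modules := Coherent.hasInjectiveResolutions_modules _
  exact CohCmpLib.shortExact_push_of_isZero _ hS
    (BlowUpCoh.isZero_rpush_of_rpushAb _ (van_of_reg h 1 le_rfl))

variable {hY : KRR.HasEnoughLocFree Y} {hP : KRR.HasEnoughLocFree (KRR.PY n Y)}
  {q : SGA6.Kvb (KRR.PY n Y) →+ SGA6.Kvb Y}

theorem Good.of_iso {A B : (KRR.PY n Y).Modules} (e : A ≅ B) (h : Good hY hP q A) : Good hY hP q B := by
  haveI := isNoetherian_PY n Y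
  let e' := (Scheme.Modules.pushforward (KRR.pr n Y)).mapIso e
  exact ⟨isRegSheaf_of_iso e h.reg, cohBdd_of_iso e h.bdd, cohBdd_of_iso e' h.push,
    by rw [← vbCl_iso hP e h.bdd, h.eq, vbCl_iso hY e' h.push]⟩

theorem Good.of_vb (hq : IsPush q) {F : (KRR.PY n Y).Modules} (hF : FlatMod.IsFinLocFree F)
    (hreg : KRR.IsRegSheaf n Y F) : Good hY hP q F := by
  haveI := isNoetherian_PY n Y
  have h := isFinLocFree_push_reg hF hreg
  exact ⟨hreg, cohBdd_of_finLocFree hF, cohBdd_of_finLocFree h, by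
    rw [vbCl_vb hP hF, vbCl_vb hY h, hq F ⟨hF, hreg⟩]⟩

theorem Good.mid {S : ShortComplex (KRR.PY n Y).Modules} (hS : S.ShortExact) (h₁ : Good hY hP q S.X₁)
    (h₃ : Good hY hP q S.X₃) : Good hY hP q S.X₂ := by
  haveI := isNoetherian_PY n Y
  have hS' := shortExact_push_reg' hS h₁.reg
  refine ⟨fun i hi => CM28.isZero_X₂ (Coh.pushAb (KRR.pr n Y)) (CM28.twF_shortExact hS (-(i : ℤ))) i
    (h₁.reg i hi) (h₃.reg i hi), cohBdd_mid hS h₁.bdd h₃.bdd, cohBdd_mid hS' h₁.push h₃.push, ?_⟩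
  rw [vbCl_add hP hS h₁.bdd (cohBdd_mid hS h₁.bdd h₃.bdd) h₃.bdd, map_add, h₁.eq, h₃.eq]
  exact (vbCl_add hY hS' h₁.push (cohBdd_mid hS' h₁.push h₃.push) h₃.push).symm

theorem Good.left {S : ShortComplex (KRR.PY n Y).Modules} (hS : S.ShortExact) (h₁ : KRR.IsRegSheaf n Y S.X₁)
    (h₂ : Good hY hP q S.X₂) (h₃ : Good hY hP q S.X₃) : Good hY hP q S.X₁ := by
  haveI := isNoetherian_PY n Y
  have hS' := shortExact_push_reg' hS h₁
  haveI := hS.epi_g
  haveI := hS'.epi_g
  have hb : cohBdd _ S.X₁ := cohBdd_of_iso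
    ((hS.fIsKernel).conePointUniqueUpToIso (kernelIsKernel S.g)).symm (cohBdd_kernel S.g h₂.bdd h₃.bdd)
  have hb' : cohBdd Y (S.map (Scheme.Modules.pushforward (KRR.pr n Y))).X₁ := cohBdd_of_iso
    ((hS'.fIsKernel).conePointUniqueUpToIso (kernelIsKernel _)).symm (cohBdd_kernel _ h₂.push h₃.push)
  refine ⟨h₁, hb, hb', ?_⟩
  have a := congrArg q (vbCl_add hP hS hb h₂.bdd h₃.bdd)
  have b := vbCl_add hY hS' hb' h₂.push h₃.push
  rw [map_add, h₂.eq, h₃.eq] at a
  exact (add_right_cancel (b.symm.trans a)).symm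

theorem Good.right {S : ShortComplex (KRR.PY n Y).Modules} (hS : S.ShortExact) (h₁ : Good hY hP q S.X₁)
    (h₂ : Good hY hP q S.X₂) (h₃ : KRR.IsRegSheaf n Y S.X₃) (hc₃ : cohBdd (KRR.PY n Y) S.X₃) :
    Good hY hP q S.X₃ := by
  haveI := isNoetherian_PY n Y
  have hS' := shortExact_push_reg' hS h₁.reg
  obtain ⟨c₁, d₁, e₁⟩ := h₁.push
  obtain ⟨c₂, d₂, e₂⟩ := h₂.push
  haveI := hS'.epi_g
  have hcoh : Coh.IsCoh (S.map (Scheme.Modules.pushforward (KRR.pr n Y))).X₃ := by
    haveI : IsProper (KRR.pr n Y) := RelVALib.isProper_toBase n Y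
    haveI : HasInjectiveResolutions (KRR.PY n Y).Modules := Coherent.hasInjectiveResolutions_modules _
    exact Coherent.isCoh_of_iso ((Scheme.Modules.pushforward (KRR.pr n Y)).rightDerivedZeroIsoSelf.app _)
      (Coherent.isCoh_rpush (KRR.pr n Y) hc₃.1 0)
  have hb' : cohBdd Y (S.map (Scheme.Modules.pushforward (KRR.pr n Y))).X₃ := ⟨hcoh, d₁ + d₂ + 1, fun x =>
    (st_shortExact x hS').hasProjectiveDimensionLT_X₃ (d₁ + d₂ + 1)
      (LT_mono x _ (e₁ x) (by omega)) (LT_mono x _ (e₂ x) (by omega))⟩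
  refine ⟨h₃, hc₃, hb', ?_⟩
  have a := congrArg q (vbCl_add hP hS h₁.bdd h₂.bdd hc₃)
  have b := vbCl_add hY hS' h₁.push h₂.push hb'
  rw [map_add, h₁.eq, h₂.eq] at a
  exact add_left_cancel (a.symm.trans b)

theorem Good.of_isZero (hq : IsPush q) {Z : (KRR.PY n Y).Modules} (hZ : IsZero Z) : Good hY hP q Z :=
  Good.of_vb hq (finLocFree_of_isZero hZ) (isReg_of_isZero hZ)

/-- All high twists are good. -/
theorem exists_bound_good (hq : IsPush q) : ∀ (d : ℕ) (A : (KRR.PY n Y).Modules), Coh.IsCoh A →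
    (∀ x, HasProjectiveDimensionLT (st x A) (d + 1)) →
      ∃ N : ℕ, ∀ m : ℤ, (N : ℤ) ≤ m → Good hY hP q (KRR.twF n Y m A) := by
  haveI := isNoetherian_PY n Y
  intro d
  induction d with
  | zero =>
    intro A hA h
    obtain ⟨N, hN⟩ := exists_regBound (isFinLocFree_of_LT_one hA h)
    exact ⟨N, fun m hm => Good.of_vb hq (hN m hm).1 (hN m hm).2⟩
  | succ d ih =>
    intro A hA h
    obtain ⟨E, p, hE, hp⟩ := hP A hA
    haveI := hp
    have hK : Coh.IsCoh (kernel p) := isCoh_kernel' p (Coherent.CohBC.isCoh_of_isFinLocFree hE) hA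
    obtain ⟨N₁, h₁⟩ := ih (kernel p) hK fun x =>
      (st_shortExact x (ses_kernel p)).hasProjectiveDimensionLT_X₁ (d + 1)
        (LT_mono x E (LT_one_of_finLocFree hE x) (by omega)) (h x)
    obtain ⟨N₂, h₂⟩ := exists_regBound hE
    obtain ⟨N₃, h₃⟩ := exists_bound_reg (n := n) hA
    refine ⟨max N₁ (max N₂ N₃), fun m hm => ?_⟩
    obtain ⟨T, hT, x₁, x₂, x₃⟩ := twF_ses (ses_kernel p) m
    dsimp at x₁ x₂ x₃
    have g₁ := h₁ m (le_trans (by exact_mod_cast le_max_left _ _) hm)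
    have g₂ := h₂ m (le_trans (by exact_mod_cast (le_max_left N₂ N₃).trans (le_max_right N₁ _)) hm)
    have g₃ := h₃ m (le_trans (by exact_mod_cast (le_max_right N₂ N₃).trans (le_max_right N₁ _)) hm)
    rw [← x₃]
    exact Good.right hT (x₁ ▸ g₁) (x₂ ▸ Good.of_vb hq g₂.1 g₂.2) (x₃ ▸ g₃)
      (x₃ ▸ cohBdd_of_iso (AmpleLib.tensorComm _ _) (cohBdd_tensor ⟨hA, d + 1, h⟩ (isFinLocFree_twistOver m)))

/-- The top term of an exact sequence of regular modules whose other terms are good is good. -/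
theorem good_top : ∀ (N : ℕ) (D : ℕ → (KRR.PY n Y).Modules) (f : ∀ p, D (p + 1) ⟶ D p)
    (w : ∀ p, f (p + 1) ≫ f p = 0), (∀ p, (ShortComplex.mk (f (p + 1)) (f p) (w p)).Exact) → Epi (f 0) →
    (∀ p, KRR.IsRegSheaf n Y (D p)) → (∀ p, N + 1 < p → IsZero (D p)) → (∀ p, p ≤ N → Good hY hP q (D p)) →
    Good hY hP q (D (N + 1)) := by
  intro N
  induction N with
  | zero =>
    intro D f w hex h0 _ hz hg
    haveI := h0
    haveI : Mono (f 0) := (hex 0).mono_g ((hz 2 (by omega)).eq_of_src _ _)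
    haveI : IsIso (f 0) := isIso_of_mono_of_epi _
    exact Good.of_iso (asIso (f 0)).symm (hg 0 le_rfl)
  | succ N ih =>
    intro D f w hex h0 hreg hz hg
    haveI := h0
    let D' : ℕ → (KRR.PY n Y).Modules := fun p => match p with
      | 0 => kernel (f 0)
      | q + 1 => D (q + 2)
    let f' : ∀ p, D' (p + 1) ⟶ D' p := fun p => match p with
      | 0 => kernel.lift (f 0) (f 1) (w 0)
      | q + 1 => f (q + 2)
    have w' : ∀ p, f' (p + 1) ≫ f' p = 0 := fun p => match p with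
      | 0 => (cancel_mono (kernel.ι (f 0))).1 (by
          show (f 2 ≫ kernel.lift (f 0) (f 1) (w 0)) ≫ _ = _
          rw [Category.assoc, kernel.lift_ι, zero_comp]; exact w 1)
      | q + 1 => w (q + 2)
    have hex' : ∀ p, (ShortComplex.mk (f' (p + 1)) (f' p) (w' p)).Exact := fun p => match p with
      | 0 => by
          let φ : ShortComplex.mk (f' 1) (f' 0) (w' 0) ⟶ ShortComplex.mk (f 2) (f 1) (w 1) :=
            { τ₁ := 𝟙 _, τ₂ := 𝟙 _, τ₃ := kernel.ι (f 0)
              comm₁₂ := by simp [f']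
              comm₂₃ := by simp [f'] }
          haveI : Epi φ.τ₁ := inferInstanceAs (Epi (𝟙 _))
          haveI : IsIso φ.τ₂ := inferInstanceAs (IsIso (𝟙 _))
          haveI : Mono φ.τ₃ := inferInstanceAs (Mono (kernel.ι (f 0)))
          exact (ShortComplex.exact_iff_of_epi_of_isIso_of_mono φ).2 (hex 1)
      | q + 1 => hex (q + 2)
    have h0' : Epi (f' 0) := (ShortComplex.exact_iff_epi_kernel_lift _).1 (hex 0)
    have hz' : ∀ p, N + 1 < p → IsZero (D' p) := fun p hp => match p, hp with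
      | q + 1, hp => hz (q + 2) (by omega)
    have hK : KRR.IsRegSheaf n Y (kernel (f 0)) :=
      reg_of_resolution (N + 1) D' f' w' hex' h0' hz' fun p => hreg (p + 2)
    have hS : (ShortComplex.mk (kernel.ι (f 0)) (f 0) (kernel.condition _)).ShortExact :=
      ShortComplex.ShortExact.mk' (ShortComplex.exact_of_f_is_kernel _ (kernelIsKernel _)) inferInstance h0
    have hG : Good hY hP q (kernel (f 0)) := Good.left hS hK (hg 1 (by omega)) (hg 0 (by omega))
    exact ih D' f' w' hex' h0' (fun p => match p with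
      | 0 => hK
      | r + 1 => hreg (r + 2)) hz' fun p hp => match p, hp with
      | 0, _ => hG
      | r + 1, hp => hg (r + 2) (by omega)

/-- A regular module of bounded projective dimension is good. -/
theorem good_of_reg (hq : IsPush q) {A : (KRR.PY n Y).Modules} (hreg : KRR.IsRegSheaf n Y A)
    (hA : cohBdd (KRR.PY n Y) A) : Good hY hP q A := by
  haveI := isNoetherian_PY n Y
  obtain ⟨N, hN⟩ := exists_bound_good (hY := hY) (hP := hP) hq hA.2.choose A hA.1 hA.2.choose_spec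
  have key : ∀ k : ℕ, ∀ t : ℕ, N ≤ t + k → Good hY hP q (KRR.twF n Y (t : ℤ) A) := by
    intro k
    induction k with
    | zero => intro t ht; exact hN t (by exact_mod_cast ht)
    | succ k ih =>
      intro t ht
      obtain ⟨D, f, w, hex, hepi, hX, hz⟩ := exists_koszulSeq n Y A ((t : ℤ) + (n + 1))
      have hc : ∀ p, p ≤ n + 1 → KRR.IsRegSheaf n Y (D p) ∧ (p ≤ n → Good hY hP q (D p)) := fun p hp => by
        obtain ⟨e⟩ := hX p hp
        refine ⟨isRegSheaf_of_iso e.symm (fun i hi => ?_), fun hpn => Good.of_iso e.symm ?_⟩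
        · exact (sigma_copies (P := fun M : (KRR.PY n Y).Modules => KRR.IsRegSheaf n Y M)
            (fun S hS h₁ h₃ i hi => CM28.isZero_X₂ (Coh.pushAb (KRR.pr n Y)) (CM28.twF_shortExact hS (-(i : ℤ))) i
              (h₁ i hi) (h₃ i hi)) (fun Z hZ => isReg_of_isZero hZ) (fun _ => (0 : ℤ)) (fun _ _ _ _ _ => rfl) _
            (isRegSheaf_twF hreg (by omega)) _).1 i hi
        · refine (sigma_copies (P := fun M : (KRR.PY n Y).Modules => Good hY hP q M)
            (fun S hS h₁ h₃ => Good.mid hS h₁ h₃) (fun Z hZ => Good.of_isZero hq hZ) (fun _ => (0 : ℤ))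
            (fun _ _ _ _ _ => rfl) _ ?_ _).1
          have h := ih (t + (n + 1 - p)) (by omega)
          rwa [show ((t + (n + 1 - p) : ℕ) : ℤ) = (t : ℤ) + (n + 1) - p by omega] at h
      have hreg' : ∀ p, KRR.IsRegSheaf n Y (D p) := fun p => by
        by_cases hp : p ≤ n + 1
        · exact (hc p hp).1
        · exact isReg_of_isZero (hz p (by omega))
      have htop := good_top n D f w hex hepi hreg' (fun p hp => hz p (by omega)) fun p hp => (hc p (by omega)).2 hp
      obtain ⟨e⟩ := hX (n + 1) le_rfl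
      rw [Nat.choose_self] at e
      refine Good.of_iso (e ≪≫ coproductUniqueIso _ ≪≫ eqToIso ?_) htop
      congr 1
      push_cast; ring
  obtain ⟨e⟩ := CM28.nonempty_twF_zero A
  exact Good.of_iso e (key N 0 (by omega))

/-- The values of `p_K`. -/
theorem pushPr_vbCl {KP : Type v} {KY : Type w} [CommRing KP] [CommRing KY] {φP : SGA6.Kvb (KRR.PY n Y) →+ KP}
    (hφ : Function.Bijective φP) {φY : SGA6.Kvb Y →+ KY} {g : KP →+ KY} (hg : KRR.IsPushPr n Y φP φY g)
    (hY : KRR.HasEnoughLocFree Y) (hP : KRR.HasEnoughLocFree (KRR.PY n Y)) {A : (KRR.PY n Y).Modules}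
    (hreg : KRR.IsRegSheaf n Y A) (hA : cohBdd (KRR.PY n Y) A) :
    haveI := isNoetherian_PY n Y
    cohBdd Y ((Scheme.Modules.pushforward (KRR.pr n Y)).obj A) ∧
      g (φP (vbCl (KRR.PY n Y) hP A)) = φY (vbCl Y hY ((Scheme.Modules.pushforward (KRR.pr n Y)).obj A)) := by
  haveI := isNoetherian_PY n Y
  obtain ⟨q, hq⟩ := exists_pushPr (n := n) (Y := Y)
  obtain ⟨g', hg', huniq⟩ := existsUnique_isPushPr (n := n) (Y := Y) φP hφ φY
  let e := AddEquiv.ofBijective φP hφ
  have heq : g = φY.comp (q.comp e.symm.toAddMonoidHom) := by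
    refine (huniq g hg).trans (huniq _ fun F hF hr => ?_).symm
    show φY (q (e.symm (φP (KRR.cl _ F)))) = _
    rw [show e.symm (φP (KRR.cl _ F)) = KRR.cl _ F from e.symm_apply_apply _, hq F ⟨hF, hr⟩]
  have h := good_of_reg (hY := hY) (hP := hP) hq hreg hA
  refine ⟨h.push, ?_⟩
  rw [heq]
  show φY (q (e.symm (φP (vbCl _ hP A)))) = _
  rw [show e.symm (φP (vbCl _ hP A)) = vbCl _ hP A from e.symm_apply_apply _, h.eq]

end Groth.Agent.KPushPr28
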