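import Groth.Agent.KPushPr28.Closed
import Groth.Agent.KPr28.Twists

/-!
# Twisting by the powers of `i^* O(1)`
-/

set_option autoImplicit false
set_option backward.isDefEq.respectTransparency false
set_option linter.style.haveILetI false

universe u v w

open CategoryTheory CategoryTheory.Limits AlgebraicGeometry TopologicalSpace
open Groth.Agent.Coherent Groth.Agent.KPr28 Groth.Agent.KPush28 Groth.Agent.ResLF28

noncomputable section

namespace Groth.Agent.KPushPr28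

variable {n : ℕ} {X Y : Scheme.{u}}

/-- `i^* O(d) ⊗ F`. -/
abbrev tws (i : X ⟶ KRR.PY n Y) (d : ℤ) (F : X.Modules) : X.Modules :=
  CohB1.tensorMod ((Scheme.Modules.pullback i).obj (Twist.twistOver n Y d)) F

theorem isFinLocFree_tws (i : X ⟶ KRR.PY n Y) (d : ℤ) {F : X.Modules} (hF : FlatMod.IsFinLocFree F) :
    FlatMod.IsFinLocFree (tws i d F) :=
  ExtFilt28.isFinLocFree_tensor (DCat.PullPerf.isFinLocFree_pullback i (isFinLocFree_twistOver d)) hF

theorem rel_map {G H : Type*} [AddCommGroup G] [AddCommGroup H] (φ : G →+ H) {f : ℤ → G} {t : ℤ}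
    (h : KPr28.Rel n f t) : KPr28.Rel n (fun s => φ (f s)) t := by
  unfold KPr28.Rel at h ⊢
  have h' := congrArg φ h
  simpa only [map_sum, map_zsmul, map_zero] using h'

theorem rel_tws (i : X ⟶ KRR.PY n Y) {F : X.Modules} (hF : FlatMod.IsFinLocFree F) (t : ℤ) :
    KPr28.Rel n (fun s => KRR.cl X (tws i s F)) t := by
  obtain ⟨p, hp⟩ := KPull28.exists_pull i
  obtain ⟨mul, hmul⟩ := KvbLam28.exists_mul (X := X)
  have hO : FlatMod.IsFinLocFree (Coh.structureModule (KRR.PY n Y)) := Coherent.CohBC.isFinLocFree_structureModule _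
  have h := rel_map ((mul.flip (KRR.cl X F)).comp p) (rel_vb hO t)
  refine Eq.trans (Finset.sum_congr rfl fun k _ => congrArg _ ?_) h
  obtain ⟨z⟩ := KPr28.nonempty_twF_structure (n := n) (Y := Y) (t + (n + 1) - k)
  show _ = mul (p (KRR.cl _ _)) (KRR.cl X F)
  rw [hp _ (isFinLocFree_twF hO _)]
  refine Eq.trans ?_ (hmul _ _ (DCat.PullPerf.isFinLocFree_pullback i (isFinLocFree_twF hO _)) hF).symm
  exact ExtFilt28.clv_iso (AmpleLib.tensorIso ((Scheme.Modules.pullback i).mapIso z.symm) (Iso.refl _))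

theorem cl_tws_zero (i : X ⟶ KRR.PY n Y) (F : X.Modules) : KRR.cl X (tws i 0 F) = KRR.cl X F := by
  obtain ⟨z⟩ := CM28.nonempty_twistOver_zero n Y
  exact ExtFilt28.clv_iso (AmpleLib.tensorIso ((Scheme.Modules.pullback i).mapIso z ≪≫ PicLoc.pullbackStructureIso i)
    (Iso.refl _) ≪≫ AmpleLib.unitTensorIso F)

/-- Two homomorphisms which agree on the high twists of `[F]` agree on `[F]`. -/
theorem eq_of_twists (i : X ⟶ KRR.PY n Y) {G : Type w} [AddCommGroup G] (a b : SGA6.Kvb X →+ G) {F : X.Modules}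
    (hF : FlatMod.IsFinLocFree F)
    (h : ∃ N : ℤ, ∀ t, N ≤ t → a (KRR.cl X (tws i t F)) = b (KRR.cl X (tws i t F))) :
    a (KRR.cl X F) = b (KRR.cl X F) := by
  obtain ⟨N, hN⟩ := h
  have h0 := eq_of_rel (n := n) N (f := fun t => a (KRR.cl X (tws i t F))) (g := fun t => b (KRR.cl X (tws i t F)))
    (fun t => rel_map a (rel_tws i hF t)) (fun t => rel_map b (rel_tws i hF t)) hN 0
  simp only [cl_tws_zero] at h0
  exact h0

theorem isCoh_tws (i : X ⟶ KRR.PY n Y) (d : ℤ) {H : X.Modules} (hH : Coh.IsCoh H) : Coh.IsCoh (tws i d H) := by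
  have h := Coherent.CohBC.isCoh_of_isFinLocFree
    (DCat.PullPerf.isFinLocFree_pullback i (isFinLocFree_twistOver (n := n) (Y := Y) d))
  haveI := hH.1
  haveI := h.1
  exact ⟨Coherent.isQCoh_tensorMod _ _, Coherent.isFT_tensorMod _ _ h.2 hH.2⟩

/-- Serre vanishing along a closed subscheme of `P^l_Y`. -/
theorem exists_van_tws {l : ℕ} [IsNoetherian Y] (k : X ⟶ KRR.PY l Y) [IsClosedImmersion k] {H : X.Modules}
    (hH : Coh.IsCoh H) : ∃ N : ℤ, ∀ s, N ≤ s → ∀ q : ℕ, 1 ≤ q →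
      IsZero ((Coh.RpushAb (k ≫ KRR.pr l Y) q).obj (Coh.toAb (tws k s H))) := by
  haveI := isLocallyNoetherian_PY (n := l) (Y := Y)
  haveI : IsLocallyNoetherian X := LocallyOfFiniteType.isLocallyNoetherian k
  obtain ⟨N, hN⟩ := exists_bound_van (n := l) (Coherent.isCoh_push_finite k hH)
  refine ⟨N, fun s hs q hq => ?_⟩
  haveI := (isCoh_tws k s hH).1
  obtain ⟨e⟩ := nonempty_twF_push k s H
  obtain ⟨e'⟩ := Coherent.nonempty_rpushAb_comp_affine k (KRR.pr l Y) (tws k s H) q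
  exact (van_of_iso e (hN s hs q hq)).of_iso e'.symm

/-- Serre vanishing for finitely many modules, in all degrees. -/
theorem exists_van_tws_range {l : ℕ} [IsNoetherian Y] (k : X ⟶ KRR.PY l Y) [IsClosedImmersion k]
    {f : X ⟶ Y} (hf : k ≫ KRR.pr l Y = f) (H : ℕ → X.Modules) (hH : ∀ p, Coh.IsCoh (H p)) :
    ∀ Q : ℕ, ∃ N : ℤ, ∀ s, N ≤ s → ∀ p, p < Q → ∀ q : ℕ, 1 ≤ q →
      IsZero ((Coh.RpushAb f q).obj (Coh.toAb (tws k s (H p)))) := by
  subst hf
  intro Q
  induction Q with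
  | zero => exact ⟨0, fun s _ p hp => absurd hp (Nat.not_lt_zero p)⟩
  | succ Q ih =>
    obtain ⟨N, hN⟩ := ih
    obtain ⟨N', hN'⟩ := exists_van_tws k (hH Q)
    refine ⟨max N N', fun s hs p hp => ?_⟩
    rcases Nat.lt_succ_iff_lt_or_eq.1 hp with h | rfl
    · exact hN s (le_trans (le_max_left _ _) hs) p h
    · exact hN' s (le_trans (le_max_right _ _) hs)

/-- Twists along two embeddings commute. -/
theorem nonempty_tws_tws {m : ℕ} {Z : Scheme.{u}} (i : X ⟶ KRR.PY n Y) (k : X ⟶ KRR.PY m Z) (d s : ℤ) (F : X.Modules) :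
    Nonempty (tws i d (tws k s F) ≅ tws k s (tws i d F)) :=
  ⟨(DCat.TensorAssoc.assocIso _ _ _).symm ≪≫ AmpleLib.tensorIso (AmpleLib.tensorComm _ _) (Iso.refl _) ≪≫
    DCat.TensorAssoc.assocIso _ _ _⟩

/-- `i_* (F ⊗ k^*O(s))` is regular for large `s`. -/
theorem exists_hvan {l : ℕ} [IsNoetherian Y] (i : X ⟶ KRR.PY n Y) (k : X ⟶ KRR.PY l Y) [IsClosedImmersion i]
    [IsClosedImmersion k] {f : X ⟶ Y} (hi : i ≫ KRR.pr n Y = f) (hk : k ≫ KRR.pr l Y = f) {F : X.Modules}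
    (hF : Coh.IsCoh F) : ∃ N : ℤ, ∀ s, N ≤ s → ∀ q : ℕ, 1 ≤ q →
      IsZero ((Coh.RpushAb f q).obj (Coh.toAb (tws i (-(q : ℤ)) (tws k s F)))) := by
  haveI : IsProper (KRR.pr n Y) := RelVALib.isProper_toBase n Y
  haveI : QuasiCompact f := hi ▸ inferInstance
  haveI : QuasiSeparated f := hi ▸ inferInstance
  obtain ⟨Q, hQ⟩ := Coherent.exists_bound_isZero_rpushAb f
  obtain ⟨N, hN⟩ := exists_van_tws_range k hk (fun p => tws i (-(p : ℤ)) F) (fun p => isCoh_tws i _ hF) Q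
  refine ⟨N, fun s hs q hq => ?_⟩
  rcases le_or_gt Q q with h | h
  · exact hQ _ (isCoh_tws i _ (isCoh_tws k s hF)).1 q h
  · obtain ⟨e⟩ := nonempty_tws_tws i k (-(q : ℤ)) s F
    exact (hN s hs q h q hq).of_iso ((Coh.RpushAb f q).mapIso ((Coherent.toAbFunctor _).mapIso e))

/-- A pushforward along a closed immersion on classes of bounded modules. -/
theorem pushCl_vbCl {W : Scheme.{u}} [IsNoetherian Y] [IsNoetherian W] (hY : KRR.HasEnoughLocFree Y)
    (hW : KRR.HasEnoughLocFree W) {j : Y ⟶ W} (hj : Mor2.IsRegularClosedImmersion j)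
    {KY : Type v} {KW : Type w} [CommRing KY] [CommRing KW] {φY : SGA6.Kvb Y →+ KY} {φW : SGA6.Kvb W →+ KW}
    {a : KY →+ KW} (ha : KRR.IsPushCl j φY φW a) {A : Y.Modules} (hA : cohBdd Y A) :
    a (φY (vbCl Y hY A)) = φW (vbCl W hW ((Scheme.Modules.pushforward j).obj A)) := by
  haveI := hj.1
  have hb : ∀ {B : Y.Modules}, cohBdd Y B → cohBdd W ((Scheme.Modules.pushforward j).obj B) :=
    fun hB => KPush28.cohBdd_push' j hY hW hj hB
  obtain ⟨n, L, π, hL⟩ := exists_lfRes hY hA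
  have h1 := KPush28.map_eq_sum (fun B => φW (vbCl W hW ((Scheme.Modules.pushforward j).obj B)))
    (fun S hS h₁ h₂ h₃ => by
      rw [← map_add]
      exact congrArg φW (vbCl_add hW (KPush28.shortExact_push j hS) (hb h₁) (hb h₂) (hb h₃))) hA n L π hL
  rw [h1, ← vbCl_eq_sum hY hA n L π hL, map_sum, map_sum]
  refine Finset.sum_congr rfl fun k _ => ?_
  rw [map_zsmul, map_zsmul, KPush28.isPushCl_apply hW ha (hL.finLocFree k)
    (KPush28.cohBdd_push j hW hj (hL.finLocFree k))]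

end Groth.Agent.KPushPr28
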